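import Groth.Prelude.Def_EGA4b
import Groth.Agent.L01.Serre
import Groth.Agent.L03.FlatLemmas
import Groth.Agent.S0601
import Mathlib.RingTheory.HopkinsLevitzki

/-!
Flatness over an Artinian base from flatness in codimension one.
-/

universe u

open IsLocalRing
open scoped TensorProduct

namespace Groth.L22.Fam

/-- No embedded associated primes. -/
def NoEmb {B : Type u} [CommRing B] (I : Ideal B) : Prop :=
  ∀ (q : Ideal B), q.IsPrime → ∀ x : B, (∀ c, c ∈ q ↔ c * x ∈ I) → q ∈ minimalPrimes B

section General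

variable {B : Type u} [CommRing B] [IsNoetherianRing B]

theorem exists_ass {I : Ideal B} {x : B} (hx : x ∉ I) :
    ∃ (q : Ideal B) (_ : q.IsPrime) (y : B), (∀ c, c ∈ q ↔ c * y ∈ I) ∧ ∀ c, c * x ∈ I → c ∈ q := by
  obtain ⟨q, hq, hle⟩ := exists_le_isAssociatedPrime_of_isNoetherianRing B
    (Ideal.Quotient.mk I x : B ⧸ I) (by rwa [Ne, Ideal.Quotient.eq_zero_iff_mem])
  obtain ⟨hqp, w, hw⟩ := isAssociatedPrime_iff.mp hq
  obtain ⟨y, rfl⟩ := Ideal.Quotient.mk_surjective w
  have key : ∀ (c z : B), c • (Ideal.Quotient.mk I z : B ⧸ I) = 0 ↔ c * z ∈ I := fun c z => by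
    rw [← Ideal.Quotient.eq_zero_iff_mem]; rfl
  refine ⟨q, hqp, y, fun c => ?_, fun c hc => hle ?_⟩
  · rw [hw, Submodule.mem_colon_singleton, Submodule.mem_bot, key]
  · rw [Submodule.mem_colon_singleton, Submodule.mem_bot, key]; exact hc

theorem mem_of_forall_minimalPrimes {I : Ideal B} (hI : NoEmb I) {x : B}
    (h : ∀ p ∈ minimalPrimes B, ∃ s ∉ p, s * x ∈ I) : x ∈ I := by
  by_contra hx
  obtain ⟨q, hq, y, hy, hle⟩ := exists_ass hx
  obtain ⟨s, hs, hsx⟩ := h q (hI q hq y hy)
  exact hs (hle s hsx)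

theorem mem_of_mul_mem {I : Ideal B} (hI : NoEmb I) {a x : B}
    (ha : ∀ p ∈ minimalPrimes B, a ∉ p) (h : a * x ∈ I) : x ∈ I :=
  mem_of_forall_minimalPrimes hI fun p hp => ⟨a, ha p hp, h⟩

theorem exists_mem_notMem_minimalPrimes {q : Ideal B} [hq : q.IsPrime] (hmin : q ∉ minimalPrimes B) :
    ∃ a ∈ q, ∀ p ∈ minimalPrimes B, a ∉ p := by
  by_contra! hcon
  have hfin := minimalPrimes.finite_of_isNoetherianRing B
  obtain ⟨p, hp, hle⟩ := (Ideal.subset_union_prime (f := id) q q (fun p hp _ _ =>
    (hfin.mem_toFinset.mp hp).1.1)).mp (fun x hx => by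
      obtain ⟨p, hp, hxp⟩ := hcon x hx
      exact Set.mem_biUnion (hfin.mem_toFinset.mpr hp) hxp)
  have hp' := hfin.mem_toFinset.mp hp
  exact hmin ((le_antisymm hle (hp'.2 ⟨hq, bot_le⟩ hle)).symm ▸ hp')

theorem noEmb_bot_of_hasSk (hS1 : LocCoh.HasSk 1 B B) : NoEmb (⊥ : Ideal B) := by
  intro q hq x hx
  obtain ⟨hd, hdim⟩ := Groth.Agent.S0601.depth_supportDim_localized q
  have h := hS1 q
  rw [hd, hdim, Groth.L01.depth_eq_zero_of_smul_eq_zero
    (m := algebraMap B (Localization.AtPrime q) x) ?_ fun t ht => ?_] at h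
  · by_contra hmin
    obtain ⟨p, hp, hpq⟩ := Ideal.exists_minimalPrimes_le (bot_le : ⊥ ≤ q)
    haveI := hp.1.1
    have hlt : p < q := lt_of_le_of_ne hpq fun e => hmin (e ▸ hp)
    have h1 : (1 : WithBot ℕ∞) ≤ (q.height : WithBot ℕ∞) := by
      exact_mod_cast le_trans le_add_self (Ideal.height_add_one_le_of_lt_of_isPrime hlt)
    rw [min_eq_left (by exact_mod_cast h1)] at h
    exact absurd h (by decide)
  · intro h0
    obtain ⟨s, hs⟩ := (IsLocalization.map_eq_zero_iff q.primeCompl _ x).mp h0
    exact s.2 ((hx s).mpr (by simpa using hs))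
  · obtain ⟨c, s, rfl⟩ := IsLocalization.exists_mk'_eq q.primeCompl t
    have hc := (hx c).mp ((IsLocalization.AtPrime.mk'_mem_maximal_iff _ q c s).mp ht)
    rw [Ideal.mem_bot] at hc
    rw [smul_eq_mul, mul_comm, IsLocalization.mul_mk'_eq_mk'_of_mul, mul_comm, hc,
      IsLocalization.mk'_zero]

/-- A consequence of (S₂): principal ideals have no associated primes of height at least two. -/
theorem exists_mul_mem_span_of_hasSk_two {R : Type u} [CommRing R] [IsNoetherianRing R]
    (hS2 : LocCoh.HasSk 2 R R) {q : Ideal R} [q.IsPrime] (hq : 2 ≤ q.height) {a : R}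
    (ha : ∀ c, a * c = 0 → c = 0) {x : R} (hx : ∀ r ∈ q, r * x ∈ Ideal.span {a}) :
    ∃ c ∉ q, c * x ∈ Ideal.span {a} := by
  obtain ⟨hd, hdim⟩ := Groth.Agent.S0601.depth_supportDim_localized q
  have h := hS2 q
  have hq' : ((2 : ℕ) : WithBot ℕ∞) ≤ ((q.height : ℕ∞) : WithBot ℕ∞) :=
    WithBot.coe_le_coe.mpr (by simpa using hq)
  rw [hd, hdim, min_eq_left hq'] at h
  have h2 : 2 ≤ LocCoh.depth (Localization.AtPrime q) (Localization.AtPrime q) := by
    simpa using WithBot.coe_le_coe.mp h
  let g := algebraMap R (Localization.AtPrime q)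
  have hspan : Ideal.span {g a} = (Ideal.span {a}).map g := by
    rw [Ideal.map_span, Set.image_singleton]
  by_contra! hcon
  refine Groth.L01.Serre.not_bad_of_two_le_depth h2 ⟨g a, g x, fun c hc => ?_, fun hmem => ?_,
    fun t ht => ?_⟩
  · obtain ⟨c, s, rfl⟩ := IsLocalization.exists_mk'_eq q.primeCompl c
    rw [IsLocalization.mul_mk'_eq_mk'_of_mul, IsLocalization.mk'_eq_zero_iff] at hc
    obtain ⟨u, hu⟩ := hc
    rw [IsLocalization.mk'_eq_zero_iff]
    exact ⟨u, ha _ (by rw [← hu]; ring)⟩
  · rw [hspan] at hmem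
    obtain ⟨c, hc, hcx⟩ :=
      (IsLocalization.algebraMap_mem_map_algebraMap_iff q.primeCompl _ _ _).mp hmem
    exact hcon c hc hcx
  · obtain ⟨c, s, rfl⟩ := IsLocalization.exists_mk'_eq q.primeCompl t
    rw [hspan, IsLocalization.mk'_eq_mul_mk'_one, mul_comm (algebraMap _ _ c), mul_assoc,
      ← map_mul]
    exact Ideal.mul_mem_left _ _
      (Ideal.mem_map_of_mem _ (hx c ((IsLocalization.AtPrime.mk'_mem_maximal_iff _ q c s).mp ht)))

end General

section Artinian

variable (A : Type u) [CommRing A] [IsArtinianRing A] [IsLocalRing A]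

theorem map_maximalIdeal_le_nilradical (B : Type u) [CommRing B] [Algebra A B] :
    (maximalIdeal A).map (algebraMap A B) ≤ nilradical B := by
  rw [Ideal.map_le_iff_le_comap]
  intro r hr
  obtain ⟨n, hn⟩ := (isArtinianRing_iff_isNilpotent_maximalIdeal A).mp ‹_›
  refine (show IsNilpotent r from ⟨n, ?_⟩).map (algebraMap A B)
  have := Ideal.pow_mem_pow hr n
  rwa [hn, Ideal.zero_eq_bot, Ideal.mem_bot] at this

theorem comap_eq_maximalIdeal {B : Type u} [CommRing B] [Algebra A B] (q : Ideal B) [q.IsPrime] :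
    q.comap (algebraMap A B) = maximalIdeal A :=
  IsLocalRing.eq_maximalIdeal (IsArtinianRing.isMaximal_of_isPrime _)

/-- A step of a composition series of ideals. -/
theorem exists_cover {J K : Ideal A} (h : J < K) :
    ∃ (I : Ideal A) (t : A), J ≤ I ∧ I < K ∧ t ∈ K ∧ t ∉ I ∧ K = I ⊔ Ideal.span {t} ∧
      ∀ r ∈ maximalIdeal A, r * t ∈ I := by
  obtain ⟨I, ⟨hJI, hIK⟩, hmax⟩ :=
    (wellFounded_gt (α := Ideal A)).has_min {I | J ≤ I ∧ I < K} ⟨J, le_rfl, h⟩
  obtain ⟨t, htK, htI⟩ := SetLike.exists_of_lt hIK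
  have hgen : ∀ s ∈ K, s ∉ I → K = I ⊔ Ideal.span {s} := by
    intro s hs hsI
    by_contra hne
    have hle : I ⊔ Ideal.span {s} ≤ K := sup_le hIK.le (by simpa [Ideal.span_le] using hs)
    refine hmax _ ⟨hJI.trans le_sup_left, lt_of_le_of_ne hle (Ne.symm hne)⟩
      (lt_of_le_of_ne le_sup_left fun e => hsI ?_)
    rw [e]; exact Ideal.mem_sup_right (Ideal.mem_span_singleton_self s)
  refine ⟨I, t, hJI, hIK, htK, htI, hgen t htK htI, fun r hr => ?_⟩
  by_contra hrt
  have ht : t ∈ I ⊔ Ideal.span {r * t} := hgen _ (K.mul_mem_left r htK) hrt ▸ htK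
  obtain ⟨i, hi, z, hz, hiz⟩ := Submodule.mem_sup.mp ht
  obtain ⟨c, rfl⟩ := Ideal.mem_span_singleton'.mp hz
  have hu : IsUnit (1 - c * r) := by
    by_contra hnu
    have h1 := (maximalIdeal A).add_mem (show 1 - c * r ∈ maximalIdeal A from hnu)
      ((maximalIdeal A).mul_mem_left c hr)
    rw [sub_add_cancel] at h1
    exact (maximalIdeal.isMaximal A).ne_top ((Ideal.eq_top_iff_one _).mpr h1)
  refine htI ((Ideal.unit_mul_mem_iff_mem I hu).mp ?_)
  rw [show (1 - c * r) * t = i by rw [sub_mul, one_mul, mul_assoc]; exact sub_eq_iff_eq_add.mpr hiz.symm]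
  exact hi

theorem mem_map_of_mul {L : Type u} [CommRing L] [Algebra A L] [Module.Flat A L] {I : Ideal A}
    {t : A} (ht : t ∉ I) {w : L} (h : algebraMap A L t * w ∈ I.map (algebraMap A L)) :
    w ∈ (maximalIdeal A).map (algebraMap A L) := by
  have h' := Groth.L03.FlatLemmas.mem_colon_smul_top I t w
    (by rw [Ideal.smul_top_eq_map, Submodule.restrictScalars_mem, Algebra.smul_def]; exact h)
  rw [Ideal.smul_top_eq_map, Submodule.restrictScalars_mem] at h'
  refine Ideal.map_mono (IsLocalRing.le_maximalIdeal fun hc => ht ?_) h'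
  have := (Ideal.eq_top_iff_one _).mp hc
  rwa [Submodule.mem_colon_singleton, one_smul] at this

/-- A regular element on the closed fibre of a flat algebra is regular modulo any ideal of the base. -/
theorem mem_map_of_mul_mem {L : Type u} [CommRing L] [Algebra A L] [Module.Flat A L] {a : L}
    (ha : ∀ l, a * l ∈ (maximalIdeal A).map (algebraMap A L) →
      l ∈ (maximalIdeal A).map (algebraMap A L))
    {J : Ideal A} (hJ : J ≠ ⊤) {l : L} (hl : a * l ∈ J.map (algebraMap A L)) :
    l ∈ J.map (algebraMap A L) := by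
  suffices ∀ K : Ideal A, J ≤ K → l ∈ K.map (algebraMap A L) → l ∈ J.map (algebraMap A L) from
    this _ (IsLocalRing.le_maximalIdeal hJ)
      (ha l (Ideal.map_mono (IsLocalRing.le_maximalIdeal hJ) hl))
  intro K
  induction K using (wellFounded_lt (α := Ideal A)).induction with
  | h K ih =>
    intro hJK hlK
    rcases eq_or_lt_of_le hJK with rfl | hlt
    · exact hlK
    obtain ⟨I, t, hJI, hIK, htK, htI, hK, hmt⟩ := exists_cover A hlt
    refine ih I hIK hJI ?_
    rw [hK, Ideal.map_sup, Ideal.map_span, Set.image_singleton] at hlK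
    obtain ⟨i, hi, z, hz, rfl⟩ := Submodule.mem_sup.mp hlK
    obtain ⟨w, rfl⟩ := Ideal.mem_span_singleton'.mp hz
    have h1 : algebraMap A L t * (a * w) ∈ I.map (algebraMap A L) := by
      have := sub_mem (Ideal.map_mono hJI hl) (Ideal.mul_mem_left _ a hi)
      convert this using 1; ring
    have h2 := ha w (mem_map_of_mul A htI h1)
    refine add_mem hi ?_
    have h3 : (maximalIdeal A).map (algebraMap A L) ≤ (I.map (algebraMap A L)).colon {algebraMap A L t} := by
      rw [Ideal.map_le_iff_le_comap]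
      intro r hr
      rw [Ideal.mem_comap, Submodule.mem_colon_singleton, smul_eq_mul, ← map_mul]
      exact Ideal.mem_map_of_mem _ (hmt r hr)
    exact Submodule.mem_colon_singleton.mp (h3 h2)

end Artinian

section Main

variable {A : Type u} [CommRing A] [IsArtinianRing A] [IsLocalRing A] {B : Type u} [CommRing B]
  [Algebra A B] [IsNoetherianRing B]
  (hcodim : ∀ (q : Ideal B) [q.IsPrime], q.height ≤ 1 →
    Module.Flat A (Localization.AtPrime q) ∧ IsReduced (EGA4.FibLocRing A B q))

theorem map_map_localization (I : Ideal A) (q : Ideal B) [q.IsPrime] :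
    (I.map (algebraMap A B)).map (algebraMap B (Localization.AtPrime q)) =
      I.map (algebraMap A (Localization.AtPrime q)) := by
  rw [Ideal.map_map, ← IsScalarTower.algebraMap_eq]

include hcodim in
theorem isRadical_map (q : Ideal B) [q.IsPrime] (hq : q.height ≤ 1) :
    ((maximalIdeal A).map (algebraMap A (Localization.AtPrime q))).IsRadical := by
  have h := (hcodim q hq).2
  rw [← comap_eq_maximalIdeal A q]
  exact (Ideal.isRadical_iff_quotient_reduced _).mpr h

theorem height_le_one_of_minimal {p : Ideal B} (hp : p ∈ minimalPrimes B) : p.height ≤ 1 := by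
  haveI := hp.1.1
  rw [Ideal.height_eq_zero_iff.mpr hp]
  exact zero_le

include hcodim in
theorem exists_mul_mem_of_nil {z : B} (hz : z ∈ nilradical B) {p : Ideal B}
    (hp : p ∈ minimalPrimes B) :
    ∃ s ∉ p, s * z ∈ (maximalIdeal A).map (algebraMap A B) := by
  haveI := hp.1.1
  have h1 : algebraMap B (Localization.AtPrime p) z ∈
      (maximalIdeal A).map (algebraMap A (Localization.AtPrime p)) :=
    isRadical_map hcodim p (height_le_one_of_minimal hp) (by
      obtain ⟨n, hn⟩ := (mem_nilradical.mp hz).map (algebraMap B (Localization.AtPrime p))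
      exact ⟨n, by rw [hn]; exact zero_mem _⟩)
  rw [← map_map_localization] at h1
  exact (IsLocalization.algebraMap_mem_map_algebraMap_iff p.primeCompl _ _ _).mp h1

include hcodim in
theorem mem_nilradical_of_mul {I : Ideal A} {t : A} (ht : t ∉ I) {z : B}
    (h : algebraMap A B t * z ∈ I.map (algebraMap A B)) : z ∈ nilradical B := by
  rw [nilradical, Ideal.zero_eq_bot, ← Ideal.sInf_minimalPrimes, Submodule.mem_sInf]
  intro (p : Ideal B) hp
  haveI := hp.1.1
  haveI := (hcodim p (height_le_one_of_minimal hp)).1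
  have h1 := Ideal.mem_map_of_mem (algebraMap B (Localization.AtPrime p)) h
  rw [map_mul, ← IsScalarTower.algebraMap_apply, map_map_localization] at h1
  have h2 := mem_map_of_mul A ht h1
  rw [← map_map_localization] at h2
  obtain ⟨s, hs, hsz⟩ :=
    (IsLocalization.algebraMap_mem_map_algebraMap_iff p.primeCompl _ _ _).mp h2
  have : s * z ∈ p := (map_maximalIdeal_le_nilradical A B).trans (nilradical_le_prime p) hsz
  exact (hp.1.1.mem_or_mem this).resolve_left hs

include hcodim in
theorem mem_map_of_mul_at {q : Ideal B} [q.IsPrime] (hq : q.height ≤ 1) {a : B}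
    (ha : ∀ p ∈ minimalPrimes B, a ∉ p) {J : Ideal A} (hJ : J ≠ ⊤) {x : B}
    (h : a * x ∈ J.map (algebraMap A B)) : ∃ s ∉ q, s * x ∈ J.map (algebraMap A B) := by
  let L := Localization.AtPrime q
  haveI : Module.Flat A L := (hcodim q hq).1
  have hreg : ∀ l : L, algebraMap B L a * l ∈ (maximalIdeal A).map (algebraMap A L) →
      l ∈ (maximalIdeal A).map (algebraMap A L) := by
    intro l hl
    obtain ⟨b, s, rfl⟩ := IsLocalization.exists_mk'_eq q.primeCompl l
    rw [IsLocalization.mk'_eq_mul_mk'_one] at hl ⊢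
    refine Ideal.mul_mem_right _ _ (isRadical_map hcodim q hq ?_)
    have hunit : IsUnit (IsLocalization.mk' L 1 s) :=
      IsUnit.of_mul_eq_one (b := algebraMap B L s) (by rw [IsLocalization.mk'_spec, map_one])
    rw [← mul_assoc, Ideal.mul_unit_mem_iff_mem _ hunit, ← map_mul, ← map_map_localization] at hl
    obtain ⟨s', hs', hsab⟩ :=
      (IsLocalization.algebraMap_mem_map_algebraMap_iff q.primeCompl _ _ _).mp hl
    suffices hnil : algebraMap B L b ∈ nilradical L by
      obtain ⟨n, hn⟩ := hnil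
      exact ⟨n, by rw [hn]; exact zero_mem _⟩
    rw [nilradical_eq_sInf, Submodule.mem_sInf]
    intro (P : Ideal L) (hP : P.IsPrime)
    have hPq : P.comap (algebraMap B L) ≤ q := by
      intro c hc
      by_contra hcq
      exact hP.ne_top (Ideal.eq_top_of_isUnit_mem _ hc
        (IsLocalization.map_units L (⟨c, hcq⟩ : q.primeCompl)))
    obtain ⟨p, hp, hpP⟩ := Ideal.exists_minimalPrimes_le (bot_le : ⊥ ≤ P.comap (algebraMap B L))
    haveI := hp.1.1
    have : s' * (a * b) ∈ p := (map_maximalIdeal_le_nilradical A B).trans (nilradical_le_prime p) hsab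
    rcases hp.1.1.mem_or_mem this with h1 | h1
    · exact absurd (hPq (hpP h1)) hs'
    · exact hpP ((hp.1.1.mem_or_mem h1).resolve_left (ha p hp))
  have h1 : algebraMap B L a * algebraMap B L x ∈ J.map (algebraMap A L) := by
    rw [← map_mul, ← map_map_localization]; exact Ideal.mem_map_of_mem _ h
  have h2 := mem_map_of_mul_mem A hreg hJ h1
  rw [← map_map_localization] at h2
  exact (IsLocalization.algebraMap_mem_map_algebraMap_iff q.primeCompl _ _ _).mp h2

theorem height_le_map_nilradical (q : Ideal B) [hq : q.IsPrime]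
    [(q.map (Ideal.Quotient.mk (nilradical B))).IsPrime] :
    q.height ≤ (q.map (Ideal.Quotient.mk (nilradical B))).height := by
  let π := Ideal.Quotient.mk (nilradical B)
  have hπ : Function.Surjective π := Ideal.Quotient.mk_surjective
  have hc : ∀ P : PrimeSpectrum B, (P.asIdeal.map π).comap π = P.asIdeal := fun P => by
    rw [Ideal.comap_map_of_surjective _ hπ, ← RingHom.ker_eq_comap_bot, Ideal.mk_ker, sup_eq_left]
    exact nilradical_le_prime P.asIdeal
  let g : PrimeSpectrum B → PrimeSpectrum (B ⧸ nilradical B) := fun P =>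
    ⟨P.asIdeal.map π, Ideal.map_isPrime_of_surjective hπ
      (by rw [Ideal.mk_ker]; exact nilradical_le_prime P.asIdeal)⟩
  have hg : StrictMono g := fun P Q hPQ =>
    lt_of_le_of_ne (Ideal.map_mono hPQ.le) fun e =>
      hPQ.ne (PrimeSpectrum.ext (by rw [← hc P, ← hc Q]; exact congrArg (fun R => R.asIdeal.comap π) e))
  have := Order.height_le_height_apply_of_strictMono g hg ⟨q, hq⟩
  rwa [← PrimeSpectrum.height_eq_orderHeight, ← PrimeSpectrum.height_eq_orderHeight] at this

variable (hS1 : LocCoh.HasSk 1 B B) (hS2 : LocCoh.HasSk 2 (B ⧸ nilradical B) (B ⧸ nilradical B))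

include hcodim hS1 hS2 in
theorem noEmb_map {J : Ideal A} (hJ : J ≠ ⊤) : NoEmb (J.map (algebraMap A B)) := by
  induction J using (wellFounded_lt (α := Ideal A)).induction with
  | h K ih =>
    rcases eq_or_ne K ⊥ with rfl | hbot
    · rw [Ideal.map_bot]; exact noEmb_bot_of_hasSk hS1
    obtain ⟨I, t, -, hIK, htK, htI, hK, hmt⟩ := exists_cover A (bot_lt_iff_ne_bot.mpr hbot)
    have hI : NoEmb (I.map (algebraMap A B)) :=
      ih I hIK fun e => hJ (top_le_iff.mp (e ▸ hIK.le))
    intro q hq x hx
    by_contra hmin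
    obtain ⟨a, haq, ha⟩ := exists_mem_notMem_minimalPrimes hmin
    rcases le_or_gt q.height 1 with hht | hht
    · obtain ⟨s, hs, hsx⟩ := mem_map_of_mul_at hcodim hht ha hJ ((hx a).mp haq)
      exact hs ((hx s).mpr hsx)
    let π := Ideal.Quotient.mk (nilradical B)
    haveI : (q.map π).IsPrime := Ideal.map_isPrime_of_surjective Ideal.Quotient.mk_surjective
      (by rw [Ideal.mk_ker]; exact nilradical_le_prime q)
    have hq2 : 2 ≤ (q.map π).height :=
      le_trans (Order.add_one_le_of_lt hht) (height_le_map_nilradical q)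
    have hdec : ∀ r ∈ q, ∃ i ∈ I.map (algebraMap A B), ∃ v, r * x = i + algebraMap A B t * v := by
      intro r hr
      have := (hx r).mp hr
      rw [hK, Ideal.map_sup, Ideal.map_span, Set.image_singleton] at this
      obtain ⟨i, hi, z, hz, hiz⟩ := Submodule.mem_sup.mp this
      obtain ⟨v, rfl⟩ := Ideal.mem_span_singleton'.mp hz
      exact ⟨i, hi, v, by rw [← hiz, mul_comm v]⟩
    obtain ⟨i, hi, u, hu⟩ := hdec a haq
    have hrad : ∀ {c}, π a * π c = 0 → π c = 0 := by
      intro c hc
      rw [← map_mul, Ideal.Quotient.eq_zero_iff_mem] at hc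
      rw [Ideal.Quotient.eq_zero_iff_mem]
      rw [nilradical, Ideal.zero_eq_bot, ← Ideal.sInf_minimalPrimes, Submodule.mem_sInf] at hc ⊢
      exact fun p hp => (hp.1.1.mem_or_mem (hc p hp)).resolve_left (ha p hp)
    have hqu : ∀ r ∈ q.map π, r * π u ∈ Ideal.span {π a} := by
      intro r hr
      obtain ⟨r₀, hr₀, rfl⟩ :=
        (Ideal.mem_map_iff_of_surjective π Ideal.Quotient.mk_surjective).mp hr
      obtain ⟨i', hi', v, hv⟩ := hdec r₀ hr₀
      refine Ideal.mem_span_singleton'.mpr ⟨π v, ?_⟩
      rw [← sub_eq_zero, ← map_mul, ← map_mul, ← map_sub, Ideal.Quotient.eq_zero_iff_mem]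
      refine mem_nilradical_of_mul hcodim htI ?_
      have := sub_mem (Ideal.mul_mem_left _ r₀ hi) (Ideal.mul_mem_left _ a hi')
      have e : algebraMap A B t * (v * a - r₀ * u) = r₀ * i - a * i' := by
        linear_combination r₀ * hu - a * hv
      rwa [e]
    obtain ⟨c, hc, hcu⟩ := exists_mul_mem_span_of_hasSk_two hS2 hq2 (a := π a) (fun c => by
      obtain ⟨c, rfl⟩ := Ideal.Quotient.mk_surjective c
      exact hrad) hqu
    obtain ⟨c, rfl⟩ := Ideal.Quotient.mk_surjective c
    obtain ⟨w, hw⟩ := Ideal.mem_span_singleton'.mp hcu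
    obtain ⟨w, rfl⟩ := Ideal.Quotient.mk_surjective w
    rw [← map_mul, ← map_mul, Ideal.Quotient.eq] at hw
    have htn : algebraMap A B t * (w * a - c * u) ∈ I.map (algebraMap A B) := by
      refine mem_of_forall_minimalPrimes hI fun p hp => ?_
      obtain ⟨s, hs, hsn⟩ := exists_mul_mem_of_nil hcodim hw hp
      refine ⟨s, hs, ?_⟩
      have hle : (maximalIdeal A).map (algebraMap A B) ≤
          (I.map (algebraMap A B)).colon {algebraMap A B t} := by
        rw [Ideal.map_le_iff_le_comap]
        intro r hr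
        rw [Ideal.mem_comap, Submodule.mem_colon_singleton, smul_eq_mul, ← map_mul]
        exact Ideal.mem_map_of_mem _ (hmt r hr)
      have := Submodule.mem_colon_singleton.mp (hle hsn)
      rw [smul_eq_mul] at this
      convert this using 1; ring
    have hax : a * (c * x - algebraMap A B t * w) ∈ I.map (algebraMap A B) := by
      have := sub_mem (Ideal.mul_mem_left _ c hi) htn
      convert this using 1
      linear_combination c * hu
    have hcx : c * x ∈ K.map (algebraMap A B) := by
      rw [← sub_add_cancel (c * x) (algebraMap A B t * w)]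
      exact add_mem (Ideal.map_mono hIK.le (mem_of_mul_mem hI ha hax))
        (Ideal.mul_mem_right _ _ (Ideal.mem_map_of_mem _ htK))
    exact hc (Ideal.mem_map_of_mem π ((hx c).mpr hcx))

include hcodim hS1 hS2 in
theorem map_maximalIdeal_eq_nilradical :
    (maximalIdeal A).map (algebraMap A B) = nilradical B :=
  le_antisymm (map_maximalIdeal_le_nilradical A B) fun _ hx =>
    mem_of_forall_minimalPrimes (noEmb_map hcodim hS1 hS2 (maximalIdeal.isMaximal A).ne_top)
      fun _ hp => exists_mul_mem_of_nil hcodim hx hp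

include hcodim hS1 hS2 in
theorem isReduced_quotient : IsReduced (B ⧸ (maximalIdeal A).map (algebraMap A B)) := by
  rw [map_maximalIdeal_eq_nilradical hcodim hS1 hS2, ← Ideal.isRadical_iff_quotient_reduced]
  intro x hx
  rwa [nilradical, Ideal.zero_eq_bot, Ideal.radical_idem] at hx

include hcodim hS1 hS2 in
theorem injective_rTensor (K : Ideal A) : Function.Injective (K.subtype.rTensor B) := by
  induction K using (wellFounded_lt (α := Ideal A)).induction with
  | h K ih =>
    rcases eq_or_ne K ⊥ with rfl | hbot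
    · intro z w _; exact Subsingleton.elim z w
    obtain ⟨I, t, -, hIK, htK, htI, hK, hmt⟩ := exists_cover A (bot_lt_iff_ne_bot.mpr hbot)
    let ι : I →ₗ[A] K := Submodule.inclusion hIK.le
    let tK : K := ⟨t, htK⟩
    have hdec : ∀ z : K ⊗[A] B, ∃ (y : I ⊗[A] B) (b : B), z = ι.rTensor B y + tK ⊗ₜ[A] b := by
      intro z
      induction z using TensorProduct.induction_on with
      | zero => exact ⟨0, 0, by simp⟩
      | tmul k b =>
        obtain ⟨i, hi, z, hz, hiz⟩ := Submodule.mem_sup.mp (hK.le k.2)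
        obtain ⟨c, rfl⟩ := Ideal.mem_span_singleton'.mp hz
        refine ⟨⟨i, hi⟩ ⊗ₜ[A] b, c • b, ?_⟩
        rw [LinearMap.rTensor_tmul, ← TensorProduct.smul_tmul, ← TensorProduct.add_tmul]
        congr 1
        exact Subtype.ext hiz.symm
      | add z z' hz hz' =>
        obtain ⟨y, b, rfl⟩ := hz
        obtain ⟨y', b', rfl⟩ := hz'
        exact ⟨y + y', b + b', by rw [map_add, TensorProduct.tmul_add]; abel⟩
    rw [injective_iff_map_eq_zero]
    intro z hz
    obtain ⟨y, b, rfl⟩ := hdec z
    have himg : ∀ y : I ⊗[A] B,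
        TensorProduct.lid A B (I.subtype.rTensor B y) ∈ I.map (algebraMap A B) := by
      intro y
      induction y using TensorProduct.induction_on with
      | zero => simp
      | tmul i b =>
        simp only [LinearMap.rTensor_tmul, Submodule.subtype_apply, TensorProduct.lid_tmul,
          Algebra.smul_def]
        exact Ideal.mul_mem_right _ _ (Ideal.mem_map_of_mem _ i.2)
      | add y y' hy hy' => simp only [map_add]; exact add_mem hy hy'
    have hb : b ∈ (maximalIdeal A).map (algebraMap A B) := by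
      rw [map_maximalIdeal_eq_nilradical hcodim hS1 hS2]
      refine mem_nilradical_of_mul hcodim htI ?_
      have h0 := congrArg (TensorProduct.lid A B) hz
      rw [map_add, ← LinearMap.comp_apply, ← LinearMap.rTensor_comp,
        show K.subtype ∘ₗ ι = I.subtype from rfl, map_add, LinearMap.rTensor_tmul, map_zero] at h0
      simp only [tK, Submodule.subtype_apply, TensorProduct.lid_tmul, Algebra.smul_def] at h0
      rw [eq_neg_of_add_eq_zero_right h0]
      exact neg_mem (himg y)
    have hrange : tK ⊗ₜ[A] b ∈ LinearMap.range (ι.rTensor B) := by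
      clear hz
      rw [Ideal.map] at hb
      have key : ∀ c : B, tK ⊗ₜ[A] (c * b) ∈ LinearMap.range (ι.rTensor B) := by
        induction hb using Submodule.span_induction with
        | mem v hv =>
          obtain ⟨r, hr, rfl⟩ := hv
          intro c
          refine ⟨⟨r * t, hmt r hr⟩ ⊗ₜ[A] c, ?_⟩
          rw [mul_comm c, ← Algebra.smul_def, ← TensorProduct.smul_tmul, LinearMap.rTensor_tmul]
          rfl
        | zero => intro c; simp
        | add v w _ _ hv hw => intro c; rw [mul_add, TensorProduct.tmul_add]; exact add_mem (hv c) (hw c)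
        | smul d v _ hv => intro c; rw [smul_eq_mul, ← mul_assoc]; exact hv _
      simpa using key 1
    obtain ⟨y', hy'⟩ := hrange
    rw [← hy', ← map_add] at hz ⊢
    rw [← LinearMap.comp_apply, ← LinearMap.rTensor_comp,
      show K.subtype ∘ₗ ι = I.subtype from rfl] at hz
    rw [(injective_iff_map_eq_zero _).mp (ih I hIK) _ hz, map_zero]

include hcodim hS1 hS2 in
theorem flat : Module.Flat A B := by
  rw [Module.Flat.iff_rTensor_injective']
  exact fun I => injective_rTensor hcodim hS1 hS2 I

end Main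

end Groth.L22.Fam
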